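import Groth.Prelude.Def_W4c5flasquetoriphsGLat
import Mathlib.LinearAlgebra.FreeModule.PID
import Mathlib.LinearAlgebra.Dual.Lemmas
import Mathlib.GroupTheory.GroupAction.Quotient
import Mathlib.RingTheory.Noetherian.Basic
import Mathlib.Data.Finsupp.SMul
import Mathlib.Algebra.Group.Subgroup.Finite

/-!
# Flasque and coflasque resolutions of lattices over a finite group
-/

noncomputable section

namespace GrothLib.GLat25

theorem finite_subgroup (G : Type) [Group G] [Finite G] : Finite (Subgroup G) :=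
  Finite.of_injective (fun H ↦ (H : Set G)) SetLike.coe_injective

theorem finite_cosets (G : Type) [Group G] [Finite G] (H : Subgroup G) : Finite (G ⧸ H) :=
  Finite.of_surjective _ QuotientGroup.mk_surjective

variable {G : Type} [Group G]

/-- The permutation representation on a `G`-set. -/
def perm (X : Type) [MulAction G X] : Representation ℤ G (X →₀ ℤ) where
  toFun g := Finsupp.lmapDomain ℤ ℤ (g • ·)
  map_one' := by
    apply Finsupp.lhom_ext
    intro x b
    simp
  map_mul' g h := by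
    apply Finsupp.lhom_ext
    intro x b
    simp [mul_smul]

variable {X : Type} [MulAction G X]

@[simp] theorem perm_single (g : G) (x : X) (b : ℤ) :
    perm X g (Finsupp.single x b) = Finsupp.single (g • x) b := by
  simp [perm]

theorem perm_apply (g : G) (m : X →₀ ℤ) (x : X) : perm X g m x = m (g⁻¹ • x) := by
  conv_lhs => rw [← smul_inv_smul g x]
  exact Finsupp.mapDomain_apply (MulAction.injective g) m _

theorem isPermutation_perm : GLat.IsPermutation (perm (G := G) X) :=
  ⟨X, Finsupp.basisSingleOne, fun g x ↦ ⟨g • x, by simp⟩⟩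

section Finite

variable [Finite G]

theorem isCoflasque_perm : GLat.IsCoflasque (perm (G := G) X) := by
  classical
  intro H f hf
  have := Fintype.ofFinite H
  let S : X →₀ ℤ := ∑ b : H, f b
  have hn : (0 : ℤ) < Fintype.card H := by exact_mod_cast Fintype.card_pos
  have key : ∀ (a : H) (x : X),
      S x = (Fintype.card H : ℤ) * f a x + S ((a : G)⁻¹ • x) := fun a x ↦ by
    have h1 : S = ∑ b : H, (f a + perm X (a : G) (f b)) := by
      rw [← Finset.sum_congr rfl fun b _ ↦ hf a b]
      exact (Equiv.sum_comp (Equiv.mulLeft a) f).symm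
    conv_lhs => rw [h1]
    simp [Finsupp.finsetSum_apply, Finset.sum_add_distrib, perm_apply, S]
  refine ⟨Finsupp.mapRange (fun v ↦ (-v) / (Fintype.card H : ℤ)) (by simp) S, fun a ↦ ?_⟩
  ext x
  rw [Finsupp.sub_apply, perm_apply, Finsupp.mapRange_apply, Finsupp.mapRange_apply, key a x,
    show -S ((a : G)⁻¹ • x) =
      -((Fintype.card H : ℤ) * f a x + S ((a : G)⁻¹ • x)) + (Fintype.card H : ℤ) * f a x by ring,
    Int.add_mul_ediv_left _ _ hn.ne']
  ring

theorem isFlasque_perm : GLat.IsFlasque (perm (G := G) X) := by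
  classical
  intro H m hm
  have := Fintype.ofFinite H
  rw [finsum_eq_sum_of_fintype] at hm
  let O := MulAction.orbitRel.Quotient H X
  let q : X → O := Quotient.mk''
  let s : O → X := Quotient.out
  have hq : Finsupp.mapDomain q m = 0 := by
    have h1 : ∀ h : H, Finsupp.mapDomain q (perm X (h : G) m) = Finsupp.mapDomain q m := fun h ↦ by
      change Finsupp.mapDomain q (Finsupp.mapDomain _ m) = _
      rw [← Finsupp.mapDomain_comp]
      exact Finsupp.mapDomain_congr fun x _ ↦ Quotient.sound' (MulAction.mem_orbit x h)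
    have h2 := congrArg (Finsupp.lmapDomain ℤ ℤ q) hm
    rw [map_sum, map_zero] at h2
    simp only [Finsupp.lmapDomain_apply, h1, Finset.sum_const, Finset.card_univ] at h2
    exact (smul_eq_zero.1 h2).resolve_left Fintype.card_ne_zero
  set Aug := Submodule.span ℤ {z : X →₀ ℤ | ∃ (h : H) (y : X →₀ ℤ), z = perm X (h : G) y - y}
  have h3 : ∀ z : X →₀ ℤ, z - Finsupp.mapDomain s (Finsupp.mapDomain q z) ∈ Aug := fun z ↦ by
    induction z using Finsupp.induction_linear with
    | zero => simp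
    | add a b ha hb =>
      rw [Finsupp.mapDomain_add, Finsupp.mapDomain_add, add_sub_add_comm]
      exact add_mem ha hb
    | single x v =>
      obtain ⟨h, hh⟩ : ∃ h : H, (h : G) • s (q x) = x := by
        obtain ⟨h, hh⟩ := Quotient.exact' (Quotient.out_eq' (q x))
        refine ⟨h⁻¹, ?_⟩
        rw [← show h • x = s (q x) from hh]
        exact inv_smul_smul h x
      simp only [Finsupp.mapDomain_single]
      refine Submodule.subset_span ⟨h, Finsupp.single (s (q x)) v, ?_⟩
      rw [perm_single, hh]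
  simpa [hq] using h3 m

end Finite

variable {M N R : Type} [AddCommGroup M] [AddCommGroup N] [AddCommGroup R]

/-- The representation induced on an invariant submodule. -/
def subRep (ρ : Representation ℤ G M) (S : Submodule ℤ M) (h : ∀ g, ∀ m ∈ S, ρ g m ∈ S) :
    Representation ℤ G S where
  toFun g := (ρ g).restrict (h g)
  map_one' := by ext; simp
  map_mul' g g' := by ext; simp

/-- The representation induced on a quotient by an invariant submodule. -/
def quotRep (ρ : Representation ℤ G M) (S : Submodule ℤ M) (h : ∀ g, ∀ m ∈ S, ρ g m ∈ S) :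
    Representation ℤ G (M ⧸ S) where
  toFun g := S.mapQ S (ρ g) (h g)
  map_one' := by ext; simp
  map_mul' g g' := by ext; simp

/-- The product representation. -/
def prodRep (ρ : Representation ℤ G M) (σ : Representation ℤ G N) : Representation ℤ G (M × N) where
  toFun g := (ρ g).prodMap (σ g)
  map_one' := by ext <;> simp
  map_mul' g g' := by ext <;> simp

/-- An extension of coflasque modules is coflasque. -/
theorem isCoflasque_of_extension {ρ : Representation ℤ G M} {σ : Representation ℤ G N}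
    {τ : Representation ℤ G R} (i : M →ₗ[ℤ] N) (p : N →ₗ[ℤ] R) (hi : GLat.IsEquivariant ρ σ i)
    (hp : GLat.IsEquivariant σ τ p) (hinj : Function.Injective i) (hsurj : Function.Surjective p)
    (hex : LinearMap.range i = LinearMap.ker p) (hM : GLat.IsCoflasque ρ) (hR : GLat.IsCoflasque τ) :
    GLat.IsCoflasque σ := by
  intro H f hf
  obtain ⟨r, hr⟩ := hR H (fun a ↦ p (f a)) fun a b ↦ by rw [hf, map_add, hp (a : G)]
  obtain ⟨n, rfl⟩ := hsurj r
  have hmem : ∀ a : H, f a - (σ (a : G) n - n) ∈ LinearMap.range i := fun a ↦ by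
    rw [hex, LinearMap.mem_ker, map_sub, map_sub, hp, hr, sub_self]
  choose e he using hmem
  obtain ⟨m, hm⟩ := hM H e fun a b ↦ hinj <| by
    rw [map_add, hi, he, he, he, hf, map_sub, map_sub]
    simp only [Subgroup.coe_mul, map_mul, Module.End.mul_apply]
    abel
  refine ⟨n + i m, fun a ↦ ?_⟩
  have h1 := congrArg i (hm a)
  rw [he, map_sub, hi] at h1
  rw [map_add, eq_add_of_sub_eq h1]
  abel

/-- An extension of flasque modules is flasque. -/
theorem isFlasque_of_extension [Finite G] {ρ : Representation ℤ G M} {σ : Representation ℤ G N}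
    {τ : Representation ℤ G R} (i : M →ₗ[ℤ] N) (p : N →ₗ[ℤ] R) (hi : GLat.IsEquivariant ρ σ i)
    (hp : GLat.IsEquivariant σ τ p) (hinj : Function.Injective i) (hsurj : Function.Surjective p)
    (hex : LinearMap.range i = LinearMap.ker p) (hM : GLat.IsFlasque ρ) (hR : GLat.IsFlasque τ) :
    GLat.IsFlasque σ := by
  classical
  intro H n hn
  have := Fintype.ofFinite H
  rw [finsum_eq_sum_of_fintype] at hn
  set Aug := Submodule.span ℤ {z : N | ∃ (h : H) (y : N), z = σ (h : G) y - y}
  have h1 : p n ∈ Aug.map p := by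
    refine (Submodule.span_le.2 ?_) (hR H (p n) ?_)
    · rintro _ ⟨h, y, rfl⟩
      obtain ⟨y, rfl⟩ := hsurj y
      exact ⟨σ (h : G) y - y, Submodule.subset_span ⟨h, y, rfl⟩, by rw [map_sub, hp]⟩
    · rw [finsum_eq_sum_of_fintype]
      simp only [← hp _ n, ← map_sum, hn, map_zero]
  obtain ⟨z, hz, hzn⟩ := h1
  have hNz : ∀ z ∈ Aug, ∑ h : H, σ (h : G) z = 0 := fun z hz ↦ by
    induction hz using Submodule.span_induction with
    | mem y hy =>
      obtain ⟨a, y, rfl⟩ := hy
      simp only [map_sub, Finset.sum_sub_distrib, sub_eq_zero]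
      refine Eq.trans ?_ (Equiv.sum_comp (Equiv.mulRight a) fun h : H ↦ σ (h : G) y)
      simp
    | zero => simp
    | add a b _ _ ha hb => simp [map_add, Finset.sum_add_distrib, ha, hb]
    | smul c a _ ha => simp only [map_smul, ← Finset.smul_sum, ha, smul_zero]
  obtain ⟨m, hm⟩ : n - z ∈ LinearMap.range i := by
    rw [hex, LinearMap.mem_ker, map_sub, hzn, sub_self]
  have h2 : i m ∈ Aug := by
    refine (Submodule.span_le.2 ?_) (Submodule.apply_mem_span_image_of_mem_span i (hM H m ?_))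
    · rintro _ ⟨_, ⟨h, y, rfl⟩, rfl⟩
      exact Submodule.subset_span ⟨h, i y, by rw [map_sub, hi]⟩
    · rw [finsum_eq_sum_of_fintype]
      apply hinj
      have hi' : ∀ g m, i (ρ g m) = σ g (i m) := hi
      simp only [map_sum, hi', hm, map_sub, map_zero, Finset.sum_sub_distrib, hn, hNz z hz, sub_self]
  rw [hm] at h2
  simpa using add_mem h2 hz

/-- Every finitely generated module has a permutation cover with coflasque kernel. -/
theorem exists_coflasque_cover [Finite G] (A : Type) [AddCommGroup A] [Module.Finite ℤ A]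
    (ρ : Representation ℤ G A) :
    ∃ (X : Type) (_ : Finite X) (_ : MulAction G X) (π : (X →₀ ℤ) →ₗ[ℤ] A)
      (h : GLat.IsEquivariant (perm X) ρ π), Function.Surjective π ∧
      GLat.IsCoflasque (subRep (perm X) (LinearMap.ker π)
        fun g m hm ↦ by rw [LinearMap.mem_ker] at hm ⊢; rw [h, hm, map_zero]) := by
  classical
  let F : Subgroup G → Submodule ℤ A := fun H ↦ ⨅ h : H, LinearMap.ker (ρ (h : G) - LinearMap.id)
  have hF : ∀ {H : Subgroup G} {a : A}, a ∈ F H ↔ ∀ h : H, ρ (h : G) a = a := fun {H a} ↦ by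
    simp [F, sub_eq_zero]
  have hfg : ∀ H, ∃ s : Finset A, Submodule.span ℤ (s : Set A) = F H := fun H ↦
    IsNoetherian.noetherian (F H)
  choose s hs using hfg
  have := finite_subgroup G
  have := finite_cosets G
  let X := Σ p : (Σ H : Subgroup G, ↥(s H)), G ⧸ p.1
  let act : MulAction G X :=
    { smul := fun g x ↦ ⟨x.1, g • x.2⟩
      one_smul := fun x ↦ by
        show (⟨x.1, (1 : G) • x.2⟩ : X) = x
        rw [one_smul]
      mul_smul := fun g g' x ↦ by
        show (⟨x.1, (g * g') • x.2⟩ : X) = ⟨x.1, g • g' • x.2⟩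
        rw [mul_smul] }
  let val : X → A := fun x ↦ Quotient.liftOn' x.2 (fun g ↦ ρ g x.1.2.1) fun g g' hg ↦ by
    rw [QuotientGroup.leftRel_apply] at hg
    have := hF.1 ((hs x.1.1).le (Submodule.subset_span x.1.2.2)) ⟨_, hg⟩
    conv_lhs => rw [← this]
    rw [← Module.End.mul_apply, ← map_mul, mul_inv_cancel_left]
  have hval : ∀ (g : G) (x : X), val (g • x) = ρ g (val x) := by
    rintro g ⟨p, q⟩
    induction q using QuotientGroup.induction_on with
    | H g' => exact (congrArg (fun φ ↦ φ p.2.1) (map_mul ρ g g'))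
  let π : (X →₀ ℤ) →ₗ[ℤ] A := Finsupp.linearCombination ℤ val
  have hπ : GLat.IsEquivariant (perm X) ρ π := fun g m ↦ by
    refine LinearMap.congr_fun (f := π.comp (perm X g)) (g := (ρ g).comp π) ?_ m
    refine Finsupp.lhom_ext fun x b ↦ ?_
    simp [π, hval]
  have hlift : ∀ (H : Subgroup G), ∀ a ∈ F H,
      ∃ m : X →₀ ℤ, (∀ h : H, perm X (h : G) m = m) ∧ π m = a := by
    intro H a ha
    rw [← hs H] at ha
    induction ha using Submodule.span_induction with
    | mem y hy =>
      let x₀ : X := ⟨⟨H, ⟨y, hy⟩⟩, ((1 : G) : G ⧸ H)⟩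
      refine ⟨Finsupp.single x₀ 1, fun h ↦ ?_, ?_⟩
      · rw [perm_single]
        congr 1
        show (⟨x₀.1, (h : G) • ((1 : G) : G ⧸ H)⟩ : X) = _
        refine congrArg (Sigma.mk x₀.1) ?_
        exact QuotientGroup.eq.2 (by simp)
      · simp only [π, Finsupp.linearCombination_single, one_smul]
        show ρ 1 y = y
        simp
    | zero => exact ⟨0, fun h ↦ map_zero _, map_zero _⟩
    | add a b _ _ ha hb =>
      obtain ⟨m, hm, rfl⟩ := ha
      obtain ⟨m', hm', rfl⟩ := hb
      exact ⟨m + m', fun h ↦ by rw [map_add, hm, hm'], map_add _ _ _⟩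
    | smul c a _ ha =>
      obtain ⟨m, hm, rfl⟩ := ha
      exact ⟨c • m, fun h ↦ by rw [map_smul, hm], map_smul _ _ _⟩
  refine ⟨X, inferInstance, act, π, hπ, fun a ↦ ?_, fun H f hf ↦ ?_⟩
  · obtain ⟨m, -, hm⟩ := hlift ⊥ a (hF.2 fun h ↦ by
      simp [Subgroup.mem_bot.1 h.2])
    exact ⟨m, hm⟩
  obtain ⟨m, hm⟩ := isCoflasque_perm (X := X) H (fun a ↦ (f a).1) fun a b ↦
    congrArg Subtype.val (hf a b)
  obtain ⟨p, hp, hp'⟩ := hlift H (π m) (hF.2 fun h ↦ by
    have h1 : π (f h).1 = 0 := (f h).2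
    rw [hm, map_sub, hπ, sub_eq_zero] at h1
    exact h1)
  refine ⟨⟨m - p, by rw [LinearMap.mem_ker, map_sub, hp', sub_self]⟩, fun a ↦ Subtype.ext ?_⟩
  show (f a).1 = perm X (a : G) (m - p) - (m - p)
  rw [map_sub, hp, hm]
  abel

/-- An invariant of a lattice killed modulo `|H|` by all invariant functionals is a norm. -/
theorem exists_norm_eq {H : Subgroup G} [Fintype H] {A : Type} [AddCommGroup A] [Module.Finite ℤ A]
    [Module.Free ℤ A] (ρ : Representation ℤ G A) (a : A) (ha : ∀ h : H, ρ (h : G) a = a)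
    (hφ : ∀ φ : A →ₗ[ℤ] ℤ, (∀ (h : H) (y : A), φ (ρ (h : G) y) = φ y) →
      (Fintype.card H : ℤ) ∣ φ a) :
    ∃ b : A, ∑ h : H, ρ (h : G) b = a := by
  classical
  let Nm : A →ₗ[ℤ] A := ∑ h : H, ρ (h : G)
  have hN : ∀ y, Nm y = ∑ h : H, ρ (h : G) y := fun y ↦ LinearMap.sum_apply _ _ _
  let bL := Module.Free.chooseBasis ℤ (LinearMap.range Nm)
  have hdiv : ∀ k, (Fintype.card H : ℤ) ∣ bL.repr (Nm.rangeRestrict a) k := fun k ↦ by
    refine hφ ((bL.coord k).comp Nm.rangeRestrict) fun h y ↦ ?_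
    refine congrArg (bL.coord k) (Subtype.ext ?_)
    show Nm _ = Nm _
    rw [hN, hN]
    refine Eq.trans ?_ (Equiv.sum_comp (Equiv.mulRight h) fun h' : H ↦ ρ (h' : G) y)
    simp
  choose c hc using hdiv
  let z : LinearMap.range Nm := ∑ k, c k • bL k
  obtain ⟨b, hb⟩ : (z : A) ∈ LinearMap.range Nm := z.2
  refine ⟨b, ?_⟩
  rw [← hN, hb]
  have hz : (Fintype.card H : ℤ) • z = Nm.rangeRestrict a := by
    conv_rhs => rw [← bL.sum_repr (Nm.rangeRestrict a)]
    simp [z, Finset.smul_sum, smul_smul, hc]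
  have h1 : (Fintype.card H : ℤ) • (z : A) = (Fintype.card H : ℤ) • a := by
    rw [show (Fintype.card H : ℤ) • (z : A) = Nm a from congrArg Subtype.val hz, hN]
    simp [ha]
  exact smul_right_injective A (by exact_mod_cast Fintype.card_ne_zero) h1

/-- A lattice embeds in a permutation lattice with flasque cokernel, split over `ℤ`. -/
theorem exists_flasque_cokernel [Finite G] (A : Type) [AddCommGroup A] [Module.Finite ℤ A]
    [Module.Free ℤ A] (ρ : Representation ℤ G A) :
    ∃ (X : Type) (_ : Finite X) (_ : MulAction G X) (i : A →ₗ[ℤ] (X →₀ ℤ))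
      (r : (X →₀ ℤ) →ₗ[ℤ] A) (h : GLat.IsEquivariant ρ (perm X) i), r.comp i = LinearMap.id ∧
      GLat.IsFlasque (quotRep (perm X) (LinearMap.range i)
        fun g m hm ↦ by obtain ⟨a, rfl⟩ := hm; exact ⟨ρ g a, h g a⟩) := by
  classical
  let I := Module.Free.ChooseBasisIndex ℤ A
  let bA := Module.Free.chooseBasis ℤ A
  let D : Subgroup G → Submodule ℤ (Module.Dual ℤ A) := fun H ↦
    ⨅ (h : H) (y : A), LinearMap.ker (Module.Dual.eval ℤ A (ρ (h : G) y - y))
  have hD : ∀ {H : Subgroup G} {φ : Module.Dual ℤ A},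
      φ ∈ D H ↔ ∀ (h : H) (y : A), φ (ρ (h : G) y) = φ y := fun {H φ} ↦ by
    simp [D, sub_eq_zero]
  have hfg : ∀ H, ∃ s : Finset (Module.Dual ℤ A), Submodule.span ℤ (s : Set _) = D H := fun H ↦
    IsNoetherian.noetherian (D H)
  choose s₀ hs using hfg
  let s : Subgroup G → Finset (Module.Dual ℤ A) := fun H ↦
    if H = ⊥ then s₀ H ∪ Finset.univ.image bA.coord else s₀ H
  have hsD : ∀ H, ∀ φ ∈ s H, φ ∈ D H := fun H φ hφ ↦ by
    by_cases hH : H = ⊥
    · subst hH
      exact hD.2 fun h y ↦ by simp [Subgroup.mem_bot.1 h.2]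
    · exact (hs H).le (Submodule.subset_span (by simpa [s, hH] using hφ))
  have hss : ∀ H, s₀ H ⊆ s H := fun H ↦ by
    simp only [s]
    split
    · exact Finset.subset_union_left
    · exact subset_rfl
  have := finite_subgroup G
  have := finite_cosets G
  let X := Σ p : (Σ H : Subgroup G, ↥(s H)), G ⧸ p.1
  let act : MulAction G X :=
    { smul := fun g x ↦ ⟨x.1, g • x.2⟩
      one_smul := fun x ↦ by
        show (⟨x.1, (1 : G) • x.2⟩ : X) = x
        rw [one_smul]
      mul_smul := fun g g' x ↦ by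
        show (⟨x.1, (g * g') • x.2⟩ : X) = ⟨x.1, g • g' • x.2⟩
        rw [mul_smul] }
  have : Fintype X := Fintype.ofFinite X
  let val : X → Module.Dual ℤ A := fun x ↦ Quotient.liftOn' x.2 (fun g ↦ x.1.2.1.comp (ρ g⁻¹))
    fun g g' hg ↦ by
      rw [QuotientGroup.leftRel_apply] at hg
      ext y
      have := hD.1 (hsD _ _ x.1.2.2) ⟨_, hg⟩ (ρ g'⁻¹ y)
      rw [← Module.End.mul_apply, ← map_mul] at this
      simpa [mul_assoc] using this
  have hval : ∀ (g : G) (x : X) (y : A), val (g⁻¹ • x) y = val x (ρ g y) := by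
    rintro g ⟨p, q⟩ y
    induction q using QuotientGroup.induction_on with
    | H g' =>
      show p.2.1 (ρ (g⁻¹ * g')⁻¹ y) = p.2.1 (ρ g'⁻¹ (ρ g y))
      rw [mul_inv_rev, inv_inv, map_mul, Module.End.mul_apply]
  let i : A →ₗ[ℤ] (X →₀ ℤ) :=
    (Finsupp.linearEquivFunOnFinite ℤ ℤ X).symm.toLinearMap.comp (LinearMap.pi val)
  have hiap : ∀ y x, i y x = val x y := fun y x ↦ by simp [i]
  have hi : GLat.IsEquivariant ρ (perm X) i := fun g y ↦ by
    ext x
    rw [perm_apply, hiap, hiap, hval]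
  have hmem : ∀ k, bA.coord k ∈ s ⊥ := fun k ↦ by simp [s]
  let pt : I → X := fun k ↦ ⟨⟨⊥, ⟨bA.coord k, hmem k⟩⟩, ((1 : G) : G ⧸ (⊥ : Subgroup G))⟩
  let r : (X →₀ ℤ) →ₗ[ℤ] A := ∑ k, LinearMap.smulRight (Finsupp.lapply (pt k)) (bA k)
  have hr : r.comp i = LinearMap.id := by
    refine LinearMap.ext fun y ↦ ?_
    simp only [r, LinearMap.comp_apply, LinearMap.sum_apply, LinearMap.smulRight_apply,
      Finsupp.lapply_apply, hiap, LinearMap.id_apply]
    conv_rhs => rw [← bA.sum_repr y]
    refine Finset.sum_congr rfl fun k _ ↦ ?_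
    show bA.coord k (ρ (1 : G)⁻¹ y) • bA k = _
    simp
  have hinj : Function.Injective i := fun y z h ↦ by
    simpa [← LinearMap.comp_apply, hr] using congrArg r h
  refine ⟨X, inferInstance, act, i, r, hi, hr, fun H c hc ↦ ?_⟩
  have := Fintype.ofFinite H
  rw [finsum_eq_sum_of_fintype] at hc
  induction c using Submodule.Quotient.induction_on with
  | _ m =>
  obtain ⟨a, ha⟩ : ∑ h : H, perm X (h : G) m ∈ LinearMap.range i := by
    rw [← Submodule.Quotient.mk_eq_zero, ← Submodule.mkQ_apply, map_sum]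
    exact hc
  have hfix : ∀ h : H, ρ (h : G) a = a := fun h₀ ↦ hinj <| by
    rw [hi, ha, map_sum]
    refine Eq.trans ?_ (Equiv.sum_comp (Equiv.mulLeft h₀) fun h' : H ↦ perm X (h' : G) m)
    simp
  obtain ⟨b, hb⟩ := exists_norm_eq ρ a hfix fun φ hφ ↦ by
    have hφ' : φ ∈ Submodule.span ℤ (s₀ H : Set (Module.Dual ℤ A)) := (hs H).symm ▸ hD.2 hφ
    clear hφ
    induction hφ' using Submodule.span_induction with
    | mem ψ hψ =>
      let x₀ : X := ⟨⟨H, ⟨ψ, hss H hψ⟩⟩, ((1 : G) : G ⧸ H)⟩
      have hx₀ : ∀ h : H, (h : G)⁻¹ • x₀ = x₀ := fun h ↦ by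
        show (⟨x₀.1, (h : G)⁻¹ • ((1 : G) : G ⧸ H)⟩ : X) = _
        refine congrArg (Sigma.mk x₀.1) ?_
        exact QuotientGroup.eq.2 (by simp)
      refine ⟨m x₀, ?_⟩
      have h1 : i a x₀ = (Fintype.card H : ℤ) * m x₀ := by
        rw [ha, Finsupp.finsetSum_apply]
        simp [perm_apply, hx₀]
      rw [← h1, hiap]
      show ψ a = ψ (ρ (1 : G)⁻¹ a)
      simp
    | zero => simp
    | add ψ ψ' _ _ h h' => exact dvd_add h h'
    | smul c ψ _ h => exact Dvd.dvd.mul_left h c
  have h0 := isFlasque_perm (X := X) H (m - i b) (by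
    rw [finsum_eq_sum_of_fintype]
    simp only [map_sub, Finset.sum_sub_distrib, ← hi _ b, ← map_sum, hb, ha, sub_self])
  have h1 := Submodule.apply_mem_span_image_of_mem_span (LinearMap.range i).mkQ h0
  rw [map_sub, show (LinearMap.range i).mkQ (i b) = 0 from
    (Submodule.Quotient.mk_eq_zero _).2 ⟨b, rfl⟩, sub_zero] at h1
  refine Submodule.span_le.2 ?_ h1
  rintro _ ⟨_, ⟨h, y, rfl⟩, rfl⟩
  exact Submodule.subset_span ⟨h, (LinearMap.range i).mkQ y, rfl⟩

end GrothLib.GLat25
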