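import Groth.Agent.Lib.GLat25.Basic

/-!
# The four resolutions of a lattice over a finite group
-/

noncomputable section

namespace GrothLib.GLat25

variable (G : Type) [Group G] [Finite G] (A : Type) [AddCommGroup A] [Module.Finite ℤ A]
  (ρ : Representation ℤ G A)

theorem exists_coflasque_kernel_permutation_cover :
    ∃ (Q : Type) (_ : AddCommGroup Q) (P : Type) (_ : AddCommGroup P)
      (_ : Module.Finite ℤ Q) (_ : Module.Free ℤ Q) (_ : Module.Finite ℤ P) (_ : Module.Free ℤ P)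
      (σ : Representation ℤ G Q) (τ : Representation ℤ G P) (i : Q →ₗ[ℤ] P) (π : P →ₗ[ℤ] A),
      GLat.IsEquivariant σ τ i ∧ GLat.IsEquivariant τ ρ π ∧ Function.Injective i ∧ Function.Surjective π ∧
      LinearMap.range i = LinearMap.ker π ∧ GLat.IsPermutation τ ∧ GLat.IsCoflasque σ := by
  obtain ⟨X, _, _, π, h, hs, hc⟩ := exists_coflasque_cover A ρ
  exact ⟨LinearMap.ker π, inferInstance, X →₀ ℤ, inferInstance, inferInstance, inferInstance,
    inferInstance, inferInstance, _, perm X, (LinearMap.ker π).subtype, π, fun g m ↦ rfl, h,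
    Submodule.injective_subtype _, hs, Submodule.range_subtype _, isPermutation_perm, hc⟩

variable [Module.Free ℤ A]

theorem exists_embedding_permutation_flasque_cokernel :
    ∃ (P : Type) (_ : AddCommGroup P) (F : Type) (_ : AddCommGroup F)
      (_ : Module.Finite ℤ P) (_ : Module.Free ℤ P) (_ : Module.Finite ℤ F) (_ : Module.Free ℤ F)
      (σ : Representation ℤ G P) (τ : Representation ℤ G F) (i : A →ₗ[ℤ] P) (π : P →ₗ[ℤ] F),
      GLat.IsEquivariant ρ σ i ∧ GLat.IsEquivariant σ τ π ∧ Function.Injective i ∧ Function.Surjective π ∧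
      LinearMap.range i = LinearMap.ker π ∧ GLat.IsPermutation σ ∧ GLat.IsFlasque τ := by
  obtain ⟨X, _, _, i, r, h, hr, hf⟩ := exists_flasque_cokernel A ρ
  have hinj : Function.Injective i := fun y z e ↦ by
    simpa [← LinearMap.comp_apply, hr] using congrArg r e
  have : Module.Free ℤ ((X →₀ ℤ) ⧸ LinearMap.range i) :=
    Module.Free.of_equiv (Submodule.quotientEquivOfIsCompl _ _
      (LinearMap.isCompl_of_proj (f := (i.comp r).codRestrict (LinearMap.range i) fun x ↦ ⟨r x, rfl⟩)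
        (by
          rintro ⟨_, y, rfl⟩
          exact Subtype.ext (congrArg i (LinearMap.congr_fun hr y))))).symm
  exact ⟨X →₀ ℤ, inferInstance, _, inferInstance, inferInstance, inferInstance,
    inferInstance, this, perm X, _, i, (LinearMap.range i).mkQ, h, fun g m ↦ rfl, hinj,
    Submodule.mkQ_surjective _, (Submodule.ker_mkQ _).symm, isPermutation_perm, hf⟩

theorem exists_embedding_coflasque_permutation_cokernel :
    ∃ (Q : Type) (_ : AddCommGroup Q) (P : Type) (_ : AddCommGroup P)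
      (_ : Module.Finite ℤ Q) (_ : Module.Free ℤ Q) (_ : Module.Finite ℤ P) (_ : Module.Free ℤ P)
      (σ : Representation ℤ G Q) (τ : Representation ℤ G P) (i : A →ₗ[ℤ] Q) (π : Q →ₗ[ℤ] P),
      GLat.IsEquivariant ρ σ i ∧ GLat.IsEquivariant σ τ π ∧ Function.Injective i ∧ Function.Surjective π ∧
      LinearMap.range i = LinearMap.ker π ∧ GLat.IsCoflasque σ ∧ GLat.IsPermutation τ := by
  obtain ⟨P₁, _, F, _, _, _, _, _, σ₁, φ, i, p, hi, hp, hinj, hsurj, hex, hperm, -⟩ :=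
    exists_embedding_permutation_flasque_cokernel G A ρ
  obtain ⟨Q₂, _, P₂, _, _, _, _, _, σ₂, τ₂, j, q, hj, hq, hjinj, hqsurj, hjex, hperm₂, hcofl⟩ :=
    exists_coflasque_kernel_permutation_cover G F φ
  let Q := LinearMap.ker (p.comp (LinearMap.fst ℤ P₁ P₂) - q.comp (LinearMap.snd ℤ P₁ P₂))
  have hmem : ∀ {x : P₁ × P₂}, x ∈ Q ↔ p x.1 = q x.2 := fun {x} ↦ by simp [Q, sub_eq_zero]
  have hQ : ∀ g, ∀ x ∈ Q, prodRep σ₁ τ₂ g x ∈ Q := fun g x hx ↦ by
    rw [hmem] at hx ⊢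
    show p (σ₁ g x.1) = q (τ₂ g x.2)
    rw [hp, hq, hx]
  have hir : ∀ a, p (i a) = 0 := fun a ↦ LinearMap.mem_ker.1 (hex.le ⟨a, rfl⟩)
  have hjr : ∀ a, q (j a) = 0 := fun a ↦ LinearMap.mem_ker.1 (hjex.le ⟨a, rfl⟩)
  let i' : A →ₗ[ℤ] Q := ((LinearMap.inl ℤ P₁ P₂).comp i).codRestrict Q fun a ↦ hmem.2 (by simp [hir])
  let π' : Q →ₗ[ℤ] P₂ := (LinearMap.snd ℤ P₁ P₂).comp Q.subtype
  let j' : Q₂ →ₗ[ℤ] Q := ((LinearMap.inr ℤ P₁ P₂).comp j).codRestrict Q fun a ↦ hmem.2 (by simp [hjr])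
  let π₁ : Q →ₗ[ℤ] P₁ := (LinearMap.fst ℤ P₁ P₂).comp Q.subtype
  refine ⟨Q, inferInstance, P₂, inferInstance, inferInstance, inferInstance, inferInstance,
    inferInstance, subRep (prodRep σ₁ τ₂) Q hQ, τ₂, i', π', fun g a ↦ ?_, fun g x ↦ rfl,
    fun a b h ↦ hinj (congrArg (fun x : Q ↦ x.1.1) h), fun x ↦ ?_, ?_, ?_, hperm₂⟩
  · refine Subtype.ext (Prod.ext (hi g a) ?_)
    exact (map_zero (τ₂ g)).symm
  · obtain ⟨y, hy⟩ := hsurj (q x)
    exact ⟨⟨(y, x), hmem.2 hy⟩, rfl⟩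
  · refine le_antisymm (by rintro _ ⟨a, rfl⟩; rfl) fun x hx ↦ ?_
    have h2 : x.1.2 = 0 := hx
    obtain ⟨a, ha⟩ : x.1.1 ∈ LinearMap.range i := by
      rw [hex, LinearMap.mem_ker, hmem.1 x.2, h2, map_zero]
    exact ⟨a, Subtype.ext (Prod.ext ha h2.symm)⟩
  · obtain ⟨ι, b, hb⟩ := hperm
    have : GLat.IsCoflasque σ₁ := by
      classical
      choose f hf using hb
      have hfinj : ∀ g g' k, f (g * g') k = f g (f g' k) := fun g g' k ↦ b.injective (by
        rw [← hf, map_mul, Module.End.mul_apply, hf, hf])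
      let act : MulAction G ι :=
        { smul := f
          one_smul := fun k ↦ b.injective (by
            show b (f 1 k) = b k
            rw [← hf, map_one]; rfl)
          mul_smul := hfinj }
      have he : GLat.IsEquivariant σ₁ (perm ι) b.repr.toLinearMap := fun g m ↦ by
        refine LinearMap.congr_fun (f := b.repr.toLinearMap.comp (σ₁ g))
          (g := (perm ι g).comp b.repr.toLinearMap) (b.ext fun k ↦ ?_) m
        simp [hf]
        rfl
      intro H c hc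
      obtain ⟨m, hm⟩ := isCoflasque_perm (X := ι) H (fun a ↦ b.repr (c a)) fun a a' ↦ by
        rw [hc, map_add]
        exact congrArg _ (he _ _)
      refine ⟨b.repr.symm m, fun a ↦ b.repr.injective ?_⟩
      rw [map_sub, hm a, LinearEquiv.apply_symm_apply]
      exact congrArg (· - m) (((congrArg (perm ι (a : G)) (b.repr.apply_symm_apply m)).symm).trans
        (he _ _).symm)
    refine isCoflasque_of_extension j' π₁ (ρ := σ₂) (τ := σ₁) (fun g a ↦ ?_) (fun g x ↦ rfl)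
      (fun a a' h ↦ hjinj (congrArg (fun x : Q ↦ x.1.2) h)) (fun y ↦ ?_) ?_ hcofl this
    · refine Subtype.ext (Prod.ext ?_ (hj g a))
      exact (map_zero (σ₁ g)).symm
    · obtain ⟨x, hx⟩ := hqsurj (p y)
      exact ⟨⟨(y, x), hmem.2 hx.symm⟩, rfl⟩
    · refine le_antisymm (by rintro _ ⟨a, rfl⟩; rfl) fun x hx ↦ ?_
      have h1 : x.1.1 = 0 := hx
      obtain ⟨a, ha⟩ : x.1.2 ∈ LinearMap.range j := by
        rw [hjex, LinearMap.mem_ker, ← hmem.1 x.2, h1, map_zero]
      exact ⟨a, Subtype.ext (Prod.ext h1.symm ha)⟩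

omit [Module.Free ℤ A] in
theorem exists_permutation_kernel_flasque_cover :
    ∃ (P : Type) (_ : AddCommGroup P) (F : Type) (_ : AddCommGroup F)
      (_ : Module.Finite ℤ P) (_ : Module.Free ℤ P) (_ : Module.Finite ℤ F) (_ : Module.Free ℤ F)
      (σ : Representation ℤ G P) (τ : Representation ℤ G F) (i : P →ₗ[ℤ] F) (π : F →ₗ[ℤ] A),
      GLat.IsEquivariant σ τ i ∧ GLat.IsEquivariant τ ρ π ∧ Function.Injective i ∧ Function.Surjective π ∧
      LinearMap.range i = LinearMap.ker π ∧ GLat.IsPermutation σ ∧ GLat.IsFlasque τ := by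
  obtain ⟨Q, _, P₀, _, _, _, _, _, σ₀, τ₀, j, q, hj, hq, hjinj, hqsurj, hjex, hperm₀, -⟩ :=
    exists_coflasque_kernel_permutation_cover G A ρ
  obtain ⟨P₁, _, F₁, _, _, _, _, _, σ₁, φ, i, p, hi, hp, hinj, hsurj, hex, hperm, hfl⟩ :=
    exists_embedding_permutation_flasque_cokernel G Q σ₀
  let d : Q →ₗ[ℤ] P₁ × P₀ := i.prod (-j)
  have hd : ∀ g, ∀ x ∈ LinearMap.range d, prodRep σ₁ τ₀ g x ∈ LinearMap.range d := by
    rintro g _ ⟨c, rfl⟩
    exact ⟨σ₀ g c, Prod.ext (hi g c) (by simp [d, prodRep, hj g c])⟩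
  let mk := (LinearMap.range d).mkQ
  let i₁ := mk.comp (LinearMap.inl ℤ P₁ P₀)
  let i₀ := mk.comp (LinearMap.inr ℤ P₁ P₀)
  let π₀ := (LinearMap.range d).liftQ (q.comp (LinearMap.snd ℤ P₁ P₀)) (by
    rintro _ ⟨c, rfl⟩
    simp [d, LinearMap.mem_ker.1 (hjex.le ⟨c, rfl⟩)])
  let π₁ := (LinearMap.range d).liftQ (p.comp (LinearMap.fst ℤ P₁ P₀)) (by
    rintro _ ⟨c, rfl⟩
    simp [d, LinearMap.mem_ker.1 (hex.le ⟨c, rfl⟩)])
  have hi₁ : Function.Injective i₁ := (injective_iff_map_eq_zero i₁).2 fun y hy ↦ by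
    obtain ⟨c, hc⟩ := (Submodule.Quotient.mk_eq_zero _).1 hy
    have h2 : j c = 0 := by simpa [d] using congrArg Prod.snd hc
    rw [(map_eq_zero_iff j hjinj).1 h2, map_zero] at hc
    exact (congrArg Prod.fst hc).symm
  have hi₀ : Function.Injective i₀ := (injective_iff_map_eq_zero i₀).2 fun y hy ↦ by
    obtain ⟨c, hc⟩ := (Submodule.Quotient.mk_eq_zero _).1 hy
    have h2 : i c = 0 := by simpa [d] using congrArg Prod.fst hc
    rw [(map_eq_zero_iff i hinj).1 h2, map_zero] at hc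
    exact (congrArg Prod.snd hc).symm
  have hex₀ : LinearMap.range i₁ = LinearMap.ker π₀ := by
    refine le_antisymm (by rintro _ ⟨a, rfl⟩; simp [i₁, π₀, mk]) fun x hx ↦ ?_
    obtain ⟨⟨a, b⟩, rfl⟩ := Submodule.Quotient.mk_surjective _ x
    obtain ⟨c, hc⟩ : b ∈ LinearMap.range j := hjex.ge hx
    refine ⟨a + i c, (Submodule.Quotient.eq _).2 ⟨c, Prod.ext ?_ ?_⟩⟩ <;> simp [d, hc]
  have hex₁ : LinearMap.range i₀ = LinearMap.ker π₁ := by
    refine le_antisymm (by rintro _ ⟨a, rfl⟩; simp [i₀, π₁, mk]) fun x hx ↦ ?_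
    obtain ⟨⟨a, b⟩, rfl⟩ := Submodule.Quotient.mk_surjective _ x
    obtain ⟨c, hc⟩ : a ∈ LinearMap.range i := hex.ge hx
    refine ⟨b + j c, (Submodule.Quotient.eq _).2 ⟨-c, Prod.ext ?_ ?_⟩⟩ <;> simp [d, hc]
  have hs₁ : Function.Surjective π₁ := fun y ↦ by
    obtain ⟨a, rfl⟩ := hsurj y
    exact ⟨mk (a, 0), rfl⟩
  obtain ⟨ι, b, hb⟩ := hperm₀
  classical
  choose f hf using hb
  let act : MulAction G ι :=
    { smul := f
      one_smul := fun k ↦ b.injective (by
        show b (f 1 k) = b k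
        rw [← hf, map_one]; rfl)
      mul_smul := fun g g' k ↦ b.injective (by
        show b (f (g * g') k) = b (f g (f g' k))
        rw [← hf, map_mul, Module.End.mul_apply, hf, hf]) }
  have he : GLat.IsEquivariant (perm ι) τ₀ b.repr.symm.toLinearMap := fun g m ↦ by
    refine LinearMap.congr_fun (f := b.repr.symm.toLinearMap.comp (perm ι g))
      (g := (τ₀ g).comp b.repr.symm.toLinearMap) (Finsupp.lhom_ext fun k v ↦ ?_) m
    simp [Module.Basis.repr_symm_single, hf]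
    rfl
  let τ := quotRep (prodRep σ₁ τ₀) (LinearMap.range d) hd
  have hflF : GLat.IsFlasque τ :=
    isFlasque_of_extension (ρ := perm ι) (τ := φ) (i₀.comp b.repr.symm.toLinearMap) π₁
      (fun g m ↦ by
        show mk (0, b.repr.symm (perm ι g m)) = mk (σ₁ g 0, τ₀ g (b.repr.symm m))
        rw [map_zero]
        exact congrArg (fun z ↦ mk (0, z)) (he g m))
      (fun g x ↦ by
        obtain ⟨⟨a, c⟩, rfl⟩ := Submodule.Quotient.mk_surjective _ x
        exact hp g a)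
      (hi₀.comp b.repr.symm.injective) hs₁
      (by rw [LinearMap.range_comp, LinearEquiv.range, Submodule.map_top, hex₁])
      isFlasque_perm hfl
  have : Module.IsTorsionFree ℤ ((P₁ × P₀) ⧸ LinearMap.range d) :=
    Module.IsTorsionFree.mk fun n hn x y h ↦ by
      have hn' : n ≠ 0 := hn.ne_zero
      rw [← sub_eq_zero]
      rw [← sub_eq_zero, ← smul_sub] at h
      obtain ⟨a, ha⟩ : x - y ∈ LinearMap.range i₀ := by
        rw [hex₁, LinearMap.mem_ker]
        have h' := congrArg π₁ h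
        rw [map_smul, map_zero] at h'
        exact (smul_eq_zero.1 h').resolve_left hn'
      rw [← ha, ← map_smul, map_eq_zero_iff _ hi₀] at h
      rw [← ha, (smul_eq_zero.1 h).resolve_left hn', map_zero]
  refine ⟨P₁, inferInstance, _, inferInstance, inferInstance, inferInstance, inferInstance,
    Module.free_of_finite_type_torsion_free', σ₁, τ, i₁, π₀, fun g a ↦ ?_, fun g x ↦ ?_, hi₁,
    fun y ↦ ?_, hex₀, hperm, hflF⟩
  · show mk (σ₁ g a, 0) = mk (σ₁ g a, τ₀ g 0)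
    rw [map_zero]
  · obtain ⟨⟨a, c⟩, rfl⟩ := Submodule.Quotient.mk_surjective _ x
    exact hq g c
  · obtain ⟨a, rfl⟩ := hqsurj y
    exact ⟨mk (0, a), rfl⟩

end GrothLib.GLat25
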